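import Mathlib

/-!
# S4577, parity lemma: the numerical ends (pure integers)
-/

set_option autoImplicit false
set_option linter.unusedSectionVars false

namespace Cfsg.Agent.H756.KS

variable {ι : Type*} [Fintype ι] [DecidableEq ι]

theorem sum_erase (f : ι → ℤ) (i : ι) : ∑ k, f k = f i + ∑ k ∈ Finset.univ.erase i, f k :=
  (Finset.add_sum_erase _ f (Finset.mem_univ i)).symm

theorem sum_erase' (f : ι → ℤ) {s : Finset ι} {i : ι} (hi : i ∈ s) :
    ∑ k ∈ s, f k = f i + ∑ k ∈ s.erase i, f k :=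
  (Finset.add_sum_erase _ f hi).symm

theorem le_sum {s : Finset ι} (d : ι → ℤ) {i : ι} (hi : i ∈ s) : d i * d i ≤ ∑ k ∈ s, d k * d k := by
  rw [sum_erase' (fun k => d k * d k) hi]
  have h : 0 ≤ ∑ k ∈ s.erase i, d k * d k := Finset.sum_nonneg fun k _ => mul_self_nonneg _
  linarith

/-- squares -/
theorem sq_one {z : ℤ} (h0 : z ≠ 0) (h : z * z ≤ 3) : z = 1 ∨ z = -1 := by
  have h1 : z ≤ 1 := by nlinarith
  have h2 : -1 ≤ z := by nlinarith
  omega

theorem sq_two {z : ℤ} (h0 : z ≠ 0) (he : Even z) (h : z * z ≤ 15) : z = 2 ∨ z = -2 := by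
  have h1 : z ≤ 3 := by nlinarith
  have h2 : -3 ≤ z := by nlinarith
  obtain ⟨k, hk⟩ := he
  omega

theorem single_sum (f : ι → ℤ) (i : ι) (c : ℤ) : ∑ k, f k * (Pi.single i c : ι → ℤ) k = f i * c := by
  simp [Pi.single_apply]

theorem single_sum' (f : ι → ℤ) (i : ι) (c : ℤ) : ∑ k, (Pi.single i c : ι → ℤ) k * f k = c * f i := by
  simp [Pi.single_apply]

theorem even_sum (a x : ι → ℤ) : ∑ k, (if Even (a k) then x k else 0) =
    ∑ k, (if Even (a k) then (1 : ℤ) else 0) * x k := by
  refine Finset.sum_congr rfl fun k _ => ?_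
  split_ifs <;> simp

/-- **(I1).** -/
theorem end_one (d : ι → ℤ) (hne : ∀ i, d i ≠ 0) (h : ∑ i, d i * d i = 16) (hodd : ∃ i, Odd (d i))
    (he : ∃ i, Even (d i)) :
    (∀ i, ¬ (4 : ℤ) ∣ d i) ∧ ∃ x : ι → ℤ, ∑ i, x i * d i = 0 ∧
      Odd (∑ i, if Even (d i) then x i else 0) := by
  obtain ⟨o, ho⟩ := hodd
  obtain ⟨s, hs⟩ := he
  have hpos : ∀ i, 0 < d i * d i := fun i => mul_self_pos.2 (hne i)
  -- two different entries
  have h2 : ∀ i j, i ≠ j → d i * d i + d j * d j ≤ 16 := by
    intro i j hij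
    rw [← h, sum_erase _ i]
    have := le_sum d (s := Finset.univ.erase i) (i := j) (Finset.mem_erase.2 ⟨hij.symm, Finset.mem_univ _⟩)
    linarith
  have hne' : ∀ i, Even (d i) → i ≠ o := by
    rintro i hi rfl
    exact (Int.not_even_iff_odd.2 ho) hi
  have h4 : ∀ i, ¬ (4 : ℤ) ∣ d i := by
    intro i hi
    have h3 : Even (d i) := by
      obtain ⟨k, hk⟩ := hi
      exact ⟨2 * k, by rw [hk]; ring⟩
    have h5 := h2 i o (hne' i h3)
    have h6 := hpos o
    obtain ⟨k, hk⟩ := hi
    have h7 : k ≠ 0 := by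
      rintro rfl
      exact hne i (by rw [hk]; ring)
    have h8 : 1 ≤ k * k := by
      have := mul_self_pos.2 h7
      omega
    rw [hk] at h5
    nlinarith
  have hs2 : d s = 2 ∨ d s = -2 := by
    refine sq_two (hne s) hs ?_
    have h5 := h2 s o (hne' s hs)
    have h6 := hpos o
    linarith
  -- an entry `±1`
  obtain ⟨q, hq⟩ : ∃ q, d q = 1 ∨ d q = -1 := by
    by_contra hcon
    push Not at hcon
    have h9 : ∀ i, Odd (d i) → 9 ≤ d i * d i := by
      intro i hi
      obtain ⟨k, hk⟩ := hi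
      have h10 := hcon i
      rcases le_or_gt k (-2) with h11 | h11
      · nlinarith
      · rcases le_or_gt 1 k with h12 | h12
        · nlinarith
        · exfalso
          omega
    have ho9 := h9 o ho
    have hso : s ≠ o := hne' s hs
    have e1 : ∑ i, d i * d i = d o * d o + (d s * d s +
        ∑ i ∈ (Finset.univ.erase o).erase s, d i * d i) := by
      rw [sum_erase (fun i => d i * d i) o,
        sum_erase' (fun i => d i * d i) (s := Finset.univ.erase o) (i := s)
          (Finset.mem_erase.2 ⟨hso, Finset.mem_univ _⟩)]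
    have hs4 : d s * d s = 4 := by
      rcases hs2 with h' | h' <;> rw [h'] <;> norm_num
    rw [h, hs4] at e1
    by_cases hemp : ((Finset.univ.erase o).erase s : Finset ι).Nonempty
    · obtain ⟨t, ht⟩ := hemp
      have h13 := le_sum d ht
      have h14 : 4 ≤ d t * d t := by
        rcases Int.even_or_odd (d t) with h15 | h15
        · obtain ⟨k, hk⟩ := h15
          have hk0 : k ≠ 0 := by
            rintro rfl
            exact hne t (by rw [hk]; ring)
          have := mul_self_pos.2 hk0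
          rw [hk]
          nlinarith
        · have := h9 t h15
          linarith
      linarith
    · rw [Finset.not_nonempty_iff_eq_empty] at hemp
      rw [hemp, Finset.sum_empty] at e1
      -- d o * d o = 12
      have h16 : d o * d o = 12 := by linarith
      have h17 : d o ≤ 3 := by nlinarith
      have h18 : -3 ≤ d o := by nlinarith
      interval_cases h19 : d o <;> omega
  refine ⟨h4, Pi.single q (2 * d q) + Pi.single s (-(d s / 2)), ?_, ?_⟩
  · simp only [Pi.add_apply, add_mul, Finset.sum_add_distrib, single_sum']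
    rcases hq with h' | h' <;> rcases hs2 with h'' | h'' <;> rw [h', h''] <;> norm_num
  · rw [even_sum]
    simp only [Pi.add_apply, mul_add, Finset.sum_add_distrib, single_sum]
    have hq' : ¬ Even (d q) := by
      rcases hq with h' | h' <;> rw [h'] <;> decide
    rw [if_neg hq', if_pos hs]
    rcases hs2 with h'' | h'' <;> rw [h''] <;> norm_num

/-- Integral vectors of norm two. -/
theorem norm_two (u : ι → ℤ) (h : ∑ i, u i * u i = 2) :
    ∃ i j, i ≠ j ∧ (u i = 1 ∨ u i = -1) ∧ (u j = 1 ∨ u j = -1) ∧ ∀ k, k ≠ i → k ≠ j → u k = 0 := by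
  obtain ⟨i, hi⟩ : ∃ i, u i ≠ 0 := by
    by_contra hcon
    push Not at hcon
    rw [Finset.sum_eq_zero (fun i _ => by rw [hcon i]; ring)] at h
    omega
  have h1 := le_sum u (Finset.mem_univ i)
  have hi1 : u i = 1 ∨ u i = -1 := sq_one hi (by linarith)
  have hii : u i * u i = 1 := by rcases hi1 with h' | h' <;> rw [h'] <;> norm_num
  have h2 : ∑ k ∈ Finset.univ.erase i, u k * u k = 1 := by
    rw [sum_erase (fun k => u k * u k) i] at h
    linarith
  obtain ⟨j, hj, hj0⟩ : ∃ j ∈ Finset.univ.erase i, u j ≠ 0 := by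
    by_contra hcon
    push Not at hcon
    rw [Finset.sum_eq_zero (fun k hk => by rw [hcon k hk]; ring)] at h2
    omega
  have h3 := le_sum u hj
  have hj1 : u j = 1 ∨ u j = -1 := sq_one hj0 (by linarith)
  have hjj : u j * u j = 1 := by rcases hj1 with h' | h' <;> rw [h'] <;> norm_num
  have h4 : ∑ k ∈ (Finset.univ.erase i).erase j, u k * u k = 0 := by
    rw [sum_erase' (fun k => u k * u k) hj] at h2
    linarith
  refine ⟨i, j, (Finset.ne_of_mem_erase hj).symm, hi1, hj1, fun k hki hkj => ?_⟩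
  have h5 := le_sum u (s := (Finset.univ.erase i).erase j) (i := k)
    (Finset.mem_erase.2 ⟨hkj, Finset.mem_erase.2 ⟨hki, Finset.mem_univ _⟩⟩)
  have h6 := mul_self_nonneg (u k)
  exact mul_self_eq_zero.1 (by linarith)

/-- Sign normalisation: congruent Gram matrices of rank one modulo four. -/
theorem exists_sign (a b : ι → ℤ) (hb : ∀ i j, (4 : ℤ) ∣ a i * a j - b i * b j) (hodd : ∃ i, Odd (a i)) :
    ∃ ε : ℤ, (ε = 1 ∨ ε = -1) ∧ ∀ i, (4 : ℤ) ∣ a i - ε * b i := by
  obtain ⟨o, ho⟩ := hodd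
  obtain ⟨m, hm⟩ := ho
  have hbo : Odd (b o) := by
    by_contra hcon
    rw [Int.not_odd_iff_even] at hcon
    obtain ⟨k, hk⟩ := hcon
    have h1 := hb o o
    rw [hm, hk] at h1
    obtain ⟨t, ht⟩ := h1
    have h2 : (2 * m + 1) * (2 * m + 1) - (k + k) * (k + k) = 4 * (m * m + m - k * k) + 1 := by ring
    omega
  obtain ⟨k, hk⟩ := hbo
  -- `a o = ε * b o` modulo four
  obtain ⟨ε, hε, h3⟩ : ∃ ε : ℤ, (ε = 1 ∨ ε = -1) ∧ (4 : ℤ) ∣ a o - ε * b o := by
    rcases Int.even_or_odd (m - k) with h | h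
    · obtain ⟨t, ht⟩ := h
      exact ⟨1, Or.inl rfl, t, by rw [hm, hk]; omega⟩
    · obtain ⟨t, ht⟩ := h
      exact ⟨-1, Or.inr rfl, k + t + 1, by rw [hm, hk]; omega⟩
  refine ⟨ε, hε, fun j => ?_⟩
  have h4 := hb o j
  -- a o * (a j - ε b j) = (a o a j - b o b j) + b j * (b o - ε a o)
  have h5 : (4 : ℤ) ∣ b o - ε * a o := by
    have : b o - ε * a o = -ε * (a o - ε * b o) := by
      rcases hε with h' | h' <;> rw [h'] <;> ring
    rw [this]
    exact Dvd.dvd.mul_left h3 _
  have h6 : (4 : ℤ) ∣ a o * (a j - ε * b j) := by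
    have : a o * (a j - ε * b j) = (a o * a j - b o * b j) + b j * (b o - ε * a o) := by ring
    rw [this]
    exact dvd_add h4 (Dvd.dvd.mul_left h5 _)
  have h7 : IsCoprime (4 : ℤ) (a o) := by
    rw [hm]
    refine ⟨-(m * m + m), 2 * m + 1, ?_⟩
    ring
  exact h7.dvd_of_dvd_mul_left h6

theorem two_sum (u : ι → ℤ) {i j : ι} (hij : i ≠ j) (h0 : ∀ k, k ≠ i → k ≠ j → u k = 0) (f : ι → ℤ) :
    ∑ k, f k * u k = f i * u i + f j * u j := by
  rw [sum_erase (fun k => f k * u k) i,
    sum_erase' (fun k => f k * u k) (s := Finset.univ.erase i) (i := j)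
      (Finset.mem_erase.2 ⟨hij.symm, Finset.mem_univ _⟩), Finset.sum_eq_zero]
  · ring
  · intro k hk
    have h1 := Finset.ne_of_mem_erase hk
    have h2 := Finset.ne_of_mem_erase (Finset.mem_of_mem_erase hk)
    rw [h0 k h2 h1, mul_zero]

theorem common (v : ι → ℤ) (h : ∑ t, v t * v t = 2) {i j : ι} (hi : v i ≠ 0) (hj : v j = 0) :
    ∃ k, k ≠ i ∧ k ≠ j ∧ (v i = 1 ∨ v i = -1) ∧ (v k = 1 ∨ v k = -1) ∧ ∀ t, t ≠ i → t ≠ k → v t = 0 := by
  obtain ⟨i2, j2, hij2, hi2, hj2, hv0⟩ := norm_two v h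
  have hz : ∀ {z : ℤ}, (z = 1 ∨ z = -1) → z ≠ 0 := by
    intro z hz h0
    omega
  by_cases h1 : i = i2
  · subst h1
    refine ⟨j2, hij2.symm, ?_, hi2, hj2, hv0⟩
    rintro rfl
    exact hz hj2 hj
  · by_cases h2 : i = j2
    · subst h2
      refine ⟨i2, hij2, ?_, hj2, hi2, fun t h3 h4 => hv0 t h4 h3⟩
      rintro rfl
      exact hz hi2 hj
    · exact absurd (hv0 i h1 h2) hi

theorem exists_triple (u v : ι → ℤ) (huu : ∑ t, u t * u t = 2) (hvv : ∑ t, v t * v t = 2)
    (huv : ∑ t, v t * u t = 1) :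
    ∃ i j k, i ≠ j ∧ i ≠ k ∧ j ≠ k ∧ (u i = 1 ∨ u i = -1) ∧ v i = u i ∧ (u j = 1 ∨ u j = -1) ∧
      (v k = 1 ∨ v k = -1) ∧ (∀ t, t ≠ i → t ≠ j → u t = 0) ∧ ∀ t, t ≠ i → t ≠ k → v t = 0 := by
  obtain ⟨i1, j1, hij, hi1, hj1, hu0⟩ := norm_two u huu
  rw [two_sum u hij hu0 v] at huv
  by_cases h1 : v i1 = 0
  · by_cases h2 : v j1 = 0
    · rw [h1, h2] at huv
      omega
    · obtain ⟨k, hk1, hk2, hv1, hv2, hv3⟩ := common v hvv h2 h1
      refine ⟨j1, i1, k, hij.symm, hk1.symm, hk2.symm, hj1, ?_, hi1, hv2, fun t h3 h4 => hu0 t h4 h3, hv3⟩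
      rw [h1] at huv
      rcases hj1 with h' | h' <;> rcases hv1 with h'' | h'' <;> rw [h', h''] at huv ⊢ <;> omega
  · by_cases h2 : v j1 = 0
    · obtain ⟨k, hk1, hk2, hv1, hv2, hv3⟩ := common v hvv h1 h2
      refine ⟨i1, j1, k, hij, hk1.symm, hk2.symm, hi1, ?_, hj1, hv2, hu0, hv3⟩
      rw [h2] at huv
      rcases hi1 with h' | h' <;> rcases hv1 with h'' | h'' <;> rw [h', h''] at huv ⊢ <;> omega
    · exfalso
      obtain ⟨i2, j2, hij2, hi2, hj2, hv0⟩ := norm_two v hvv
      have hv : ∀ t, v t ≠ 0 → v t = 1 ∨ v t = -1 := by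
        intro t ht
        by_cases h3 : t = i2
        · rw [h3]; exact hi2
        · by_cases h4 : t = j2
          · rw [h4]; exact hj2
          · exact absurd (hv0 t h3 h4) ht
      rcases hi1 with h3 | h3 <;> rcases hj1 with h4 | h4 <;> rcases hv _ h1 with h5 | h5 <;>
        rcases hv _ h2 with h6 | h6 <;> rw [h3, h4, h5, h6] at huv <;> omega

theorem end_three_aux (a u v : ι → ℤ) (hne : ∀ i, a i ≠ 0) (haa : ∑ t, a t * a t = 16)
    (huu : ∑ t, u t * u t = 2) (hvv : ∑ t, v t * v t = 2) (huv : ∑ t, v t * u t = 1)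
    (hau : ∑ t, a t * u t = 4) (hav : ∑ t, a t * v t = 4) (hodd : ∃ i, Odd (a i))
    (he : ∃ i, Even (a i)) :
    (∀ i, ¬ (4 : ℤ) ∣ a i) ∧ ∃ x : ι → ℤ, ∑ t, x t * a t = 0 ∧ ∑ t, x t * u t = 0 ∧ ∑ t, x t * v t = 0 ∧
      Odd (∑ t, if Even (a t) then x t else 0) := by
  obtain ⟨i, j, k, hij, hik, hjk, hi1, hvi, hj1, hk1, hu0, hv0⟩ := exists_triple u v huu hvv huv
  rw [two_sum u hij hu0 a] at hau
  rw [two_sum v hik hv0 a, hvi] at hav
  have hsq : ∀ {z w : ℤ}, (w = 1 ∨ w = -1) → (z * w) * (z * w) = z * z := by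
    intro z w h
    rcases h with h | h <;> rw [h] <;> ring
  have hi2 := hsq (z := a i) hi1
  have hj2 := hsq (z := a j) hj1
  have hk2 := hsq (z := a k) hk1
  have hmj : j ∈ (Finset.univ.erase i : Finset ι) := Finset.mem_erase.2 ⟨hij.symm, Finset.mem_univ _⟩
  have hmk : k ∈ ((Finset.univ.erase i).erase j : Finset ι) :=
    Finset.mem_erase.2 ⟨hjk.symm, Finset.mem_erase.2 ⟨hik.symm, Finset.mem_univ _⟩⟩
  set S : Finset ι := ((Finset.univ.erase i).erase j).erase k with hS
  have hmem : ∀ t, t ∈ S ↔ t ≠ i ∧ t ≠ j ∧ t ≠ k := by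
    intro t
    rw [hS]
    simp only [Finset.mem_erase, Finset.mem_univ, and_true]
    tauto
  have hR : a i * a i + (a j * a j + (a k * a k + ∑ t ∈ S, a t * a t)) = 16 := by
    rw [← haa, sum_erase (fun t => a t * a t) i, sum_erase' (fun t => a t * a t) hmj,
      sum_erase' (fun t => a t * a t) hmk]
  have hR0 : 0 ≤ ∑ t ∈ S, a t * a t := Finset.sum_nonneg fun t _ => mul_self_nonneg _
  set α := a i * u i with hα
  set β := a j * u j with hβ
  set γ := a k * v k with hγ
  have hβ0 : β ≠ 0 := by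
    rw [hβ]
    exact mul_ne_zero (hne j) (by rcases hj1 with h | h <;> rw [h] <;> norm_num)
  have hβ1 : β = 4 - α := by linarith
  have hγ1 : γ = 4 - α := by linarith
  have hα4 : α ≤ 4 := by nlinarith
  have hα2 : 2 ≤ α := by nlinarith
  have hα' : α = 2 ∨ α = 3 := by omega
  have habs : ∀ {z w : ℤ} {n : ℤ}, (w = 1 ∨ w = -1) → z * w = n → z = n ∨ z = -n := by
    intro z w n h h'
    rcases h with h | h
    · left; rw [h] at h'; linarith
    · right; rw [h] at h'; linarith
  rcases hα' with hα' | hα'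
  · -- a = (2,2,2,±1^4)
    have hβ' : β = 2 := by omega
    have hγ' : γ = 2 := by omega
    have hai : a i = 2 ∨ a i = -2 := habs hi1 hα'
    have haj : a j = 2 ∨ a j = -2 := habs hj1 hβ'
    have hak : a k = 2 ∨ a k = -2 := habs hk1 hγ'
    have hei : Even (a i) := by rcases hai with h | h <;> rw [h] <;> decide
    have hej : Even (a j) := by rcases haj with h | h <;> rw [h] <;> decide
    have hek : Even (a k) := by rcases hak with h | h <;> rw [h] <;> decide
    have hR4 : ∑ t ∈ S, a t * a t = 4 := by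
      rw [← hi2, ← hj2, ← hk2, hα', hβ', hγ'] at hR
      linarith
    obtain ⟨o, ho⟩ := hodd
    have hoS : o ∈ S := by
      rw [hmem]
      refine ⟨?_, ?_, ?_⟩ <;> rintro rfl
      · exact (Int.not_even_iff_odd.2 ho) hei
      · exact (Int.not_even_iff_odd.2 ho) hej
      · exact (Int.not_even_iff_odd.2 ho) hek
    have ho1 : a o = 1 ∨ a o = -1 := by
      have h1 := le_sum a hoS
      have h2 : a o ≤ 2 := by nlinarith
      have h3 : -2 ≤ a o := by nlinarith
      obtain ⟨m, hm⟩ := ho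
      omega
    have hoo : a o * a o = 1 := by rcases ho1 with h' | h' <;> rw [h'] <;> norm_num
    have hR3 : ∑ t ∈ S.erase o, a t * a t = 3 := by
      rw [sum_erase' (fun t => a t * a t) hoS] at hR4
      linarith
    have hS1 : ∀ t ∈ S, a t = 1 ∨ a t = -1 := by
      intro t ht
      by_cases h1 : t = o
      · rw [h1]; exact ho1
      · have h2 := le_sum a (s := S.erase o) (i := t) (Finset.mem_erase.2 ⟨h1, ht⟩)
        exact sq_one (hne t) (by linarith)
    obtain ⟨hoi, hoj, hok⟩ := (hmem o).1 hoS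
    refine ⟨?_, Pi.single i (u i) + Pi.single j (-(u j)) + Pi.single k (-(v k)) + Pi.single o (2 * a o),
      ?_, ?_, ?_, ?_⟩
    · intro t
      by_cases h1 : t = i
      · rw [h1]; rcases hai with h | h <;> rw [h] <;> decide
      · by_cases h2 : t = j
        · rw [h2]; rcases haj with h | h <;> rw [h] <;> decide
        · by_cases h3 : t = k
          · rw [h3]; rcases hak with h | h <;> rw [h] <;> decide
          · rcases hS1 t ((hmem t).2 ⟨h1, h2, h3⟩) with h | h <;> rw [h] <;> decide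
    · simp only [Pi.add_apply, add_mul, Finset.sum_add_distrib, single_sum']
      have e1 : u i * a i = 2 := by rw [mul_comm]; exact hα'
      have e2 : u j * a j = 2 := by rw [mul_comm]; exact hβ'
      have e3 : v k * a k = 2 := by rw [mul_comm]; exact hγ'
      linear_combination e1 - e2 - e3 + 2 * hoo
    · simp only [Pi.add_apply, add_mul, Finset.sum_add_distrib, single_sum']
      rw [hu0 k hik.symm hjk.symm, hu0 o hoi hoj]
      rcases hi1 with h' | h' <;> rcases hj1 with h'' | h'' <;> rw [h', h''] <;> ring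
    · simp only [Pi.add_apply, add_mul, Finset.sum_add_distrib, single_sum']
      rw [hv0 j hij.symm hjk, hv0 o hoi hok, hvi]
      rcases hi1 with h' | h' <;> rcases hk1 with h'' | h'' <;> rw [h', h''] <;> ring
    · rw [even_sum]
      simp only [Pi.add_apply, mul_add, Finset.sum_add_distrib, single_sum]
      rw [if_pos hei, if_pos hej, if_pos hek, if_neg (Int.not_even_iff_odd.2 ho)]
      rcases hi1 with h' | h' <;> rcases hj1 with h'' | h'' <;> rcases hk1 with h3 | h3 <;>
        rw [h', h'', h3] <;> simp <;> decide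
  · -- a = (3,1,1,±2,±1)
    have hβ' : β = 1 := by omega
    have hγ' : γ = 1 := by omega
    have hai : a i = 3 ∨ a i = -3 := habs hi1 hα'
    have haj : a j = 1 ∨ a j = -1 := habs hj1 hβ'
    have hak : a k = 1 ∨ a k = -1 := habs hk1 hγ'
    have hR5 : ∑ t ∈ S, a t * a t = 5 := by
      rw [← hi2, ← hj2, ← hk2, hα', hβ', hγ'] at hR
      linarith
    obtain ⟨s, hs⟩ := he
    have hsS : s ∈ S := by
      rw [hmem]
      refine ⟨?_, ?_, ?_⟩ <;> rintro rfl
      · rcases hai with h | h <;> rw [h] at hs <;> revert hs <;> decide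
      · rcases haj with h | h <;> rw [h] at hs <;> revert hs <;> decide
      · rcases hak with h | h <;> rw [h] at hs <;> revert hs <;> decide
    have hs2 : a s = 2 ∨ a s = -2 := by
      have h1 := le_sum a hsS
      exact sq_two (hne s) hs (by linarith)
    have hss : a s * a s = 4 := by rcases hs2 with h' | h' <;> rw [h'] <;> norm_num
    have hR1 : ∑ t ∈ S.erase s, a t * a t = 1 := by
      rw [sum_erase' (fun t => a t * a t) hsS] at hR5
      linarith
    obtain ⟨q, hq⟩ : (S.erase s).Nonempty := by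
      by_contra hcon
      rw [Finset.not_nonempty_iff_eq_empty] at hcon
      rw [hcon, Finset.sum_empty] at hR1
      omega
    have hq1 : a q = 1 ∨ a q = -1 := by
      have h1 := le_sum a hq
      exact sq_one (hne q) (by linarith)
    have hqq : a q * a q = 1 := by rcases hq1 with h' | h' <;> rw [h'] <;> norm_num
    have hR0' : ∑ t ∈ (S.erase s).erase q, a t * a t = 0 := by
      rw [sum_erase' (fun t => a t * a t) hq] at hR1
      linarith
    have hall : ∀ t ∈ S, t = s ∨ t = q := by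
      intro t ht
      by_contra hcon
      push Not at hcon
      have h2 := le_sum a (s := (S.erase s).erase q) (i := t)
        (Finset.mem_erase.2 ⟨hcon.2, Finset.mem_erase.2 ⟨hcon.1, ht⟩⟩)
      have h3 := mul_self_pos.2 (hne t)
      linarith
    obtain ⟨hsi, hsj, hsk⟩ := (hmem s).1 hsS
    obtain ⟨hqi, hqj, hqk⟩ := (hmem q).1 (Finset.mem_of_mem_erase hq)
    refine ⟨?_, Pi.single q (2 * a q) + Pi.single s (-(a s / 2)), ?_, ?_, ?_, ?_⟩
    · intro t
      by_cases h1 : t = i
      · rw [h1]; rcases hai with h | h <;> rw [h] <;> decide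
      · by_cases h2 : t = j
        · rw [h2]; rcases haj with h | h <;> rw [h] <;> decide
        · by_cases h3 : t = k
          · rw [h3]; rcases hak with h | h <;> rw [h] <;> decide
          · rcases hall t ((hmem t).2 ⟨h1, h2, h3⟩) with h | h
            · rw [h]; rcases hs2 with h' | h' <;> rw [h'] <;> decide
            · rw [h]; rcases hq1 with h' | h' <;> rw [h'] <;> decide
    · simp only [Pi.add_apply, add_mul, Finset.sum_add_distrib, single_sum']
      rcases hq1 with h' | h' <;> rcases hs2 with h'' | h'' <;> rw [h', h''] <;> norm_num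
    · simp only [Pi.add_apply, add_mul, Finset.sum_add_distrib, single_sum']
      rw [hu0 q hqi hqj, hu0 s hsi hsj]
      ring
    · simp only [Pi.add_apply, add_mul, Finset.sum_add_distrib, single_sum']
      rw [hv0 q hqi hqk, hv0 s hsi hsk]
      ring
    · rw [even_sum]
      simp only [Pi.add_apply, mul_add, Finset.sum_add_distrib, single_sum]
      have hq' : ¬ Even (a q) := by
        rcases hq1 with h' | h' <;> rw [h'] <;> decide
      rw [if_neg hq', if_pos hs]
      rcases hs2 with h'' | h'' <;> rw [h''] <;> norm_num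

/-- **(I2).** -/
theorem end_three (a b c : ι → ℤ) (hne : ∀ i, a i ≠ 0) (haa : ∑ i, a i * a i = 16)
    (hbb : ∑ i, b i * b i = 16) (hcc : ∑ i, c i * c i = 16) (hab : ∑ i, a i * b i = 0)
    (hac : ∑ i, a i * c i = 0) (hbc : ∑ i, b i * c i = 0)
    (hb : ∀ i j, (4 : ℤ) ∣ a i * a j - b i * b j) (hc : ∀ i j, (4 : ℤ) ∣ a i * a j - c i * c j)
    (hodd : ∃ i, Odd (a i)) (he : ∃ i, Even (a i)) :
    (∀ i, ¬ (4 : ℤ) ∣ a i) ∧ ∃ x : ι → ℤ, ∑ i, x i * a i = 0 ∧ ∑ i, x i * b i = 0 ∧ ∑ i, x i * c i = 0 ∧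
      Odd (∑ i, if Even (a i) then x i else 0) := by
  obtain ⟨ε, hε, h1⟩ := exists_sign a b hb hodd
  obtain ⟨δ, hδ, h2⟩ := exists_sign a c hc hodd
  choose u hu using h1
  choose v hv using h2
  have hεε : ε * ε = 1 := by rcases hε with h | h <;> rw [h] <;> norm_num
  have hδδ : δ * δ = 1 := by rcases hδ with h | h <;> rw [h] <;> norm_num
  have e1 : 16 * ∑ t, u t * u t = 32 := by
    have : 16 * ∑ t, u t * u t = ∑ t, a t * a t - 2 * ε * ∑ t, a t * b t + ε * ε * ∑ t, b t * b t := by
      simp only [Finset.mul_sum, ← Finset.sum_sub_distrib, ← Finset.sum_add_distrib]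
      refine Finset.sum_congr rfl fun t _ => ?_
      linear_combination -(4 * u t + (a t - ε * b t)) * hu t
    rw [this, haa, hab, hbb, hεε]
    norm_num
  have e2 : 16 * ∑ t, v t * v t = 32 := by
    have : 16 * ∑ t, v t * v t = ∑ t, a t * a t - 2 * δ * ∑ t, a t * c t + δ * δ * ∑ t, c t * c t := by
      simp only [Finset.mul_sum, ← Finset.sum_sub_distrib, ← Finset.sum_add_distrib]
      refine Finset.sum_congr rfl fun t _ => ?_
      linear_combination -(4 * v t + (a t - δ * c t)) * hv t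
    rw [this, haa, hac, hcc, hδδ]
    norm_num
  have e3 : 16 * ∑ t, v t * u t = 16 := by
    have : 16 * ∑ t, v t * u t = ∑ t, a t * a t - δ * ∑ t, a t * c t - ε * ∑ t, a t * b t +
        δ * ε * ∑ t, b t * c t := by
      simp only [Finset.mul_sum, ← Finset.sum_sub_distrib, ← Finset.sum_add_distrib]
      refine Finset.sum_congr rfl fun t _ => ?_
      linear_combination -(4 * u t) * hv t - (a t - δ * c t) * hu t
    rw [this, haa, hac, hab, hbc]
    norm_num
  have e4 : 4 * ∑ t, a t * u t = 16 := by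
    have : 4 * ∑ t, a t * u t = ∑ t, a t * a t - ε * ∑ t, a t * b t := by
      simp only [Finset.mul_sum, ← Finset.sum_sub_distrib]
      refine Finset.sum_congr rfl fun t _ => ?_
      linear_combination -(a t) * hu t
    rw [this, haa, hab]
    norm_num
  have e5 : 4 * ∑ t, a t * v t = 16 := by
    have : 4 * ∑ t, a t * v t = ∑ t, a t * a t - δ * ∑ t, a t * c t := by
      simp only [Finset.mul_sum, ← Finset.sum_sub_distrib]
      refine Finset.sum_congr rfl fun t _ => ?_
      linear_combination -(a t) * hv t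
    rw [this, haa, hac]
    norm_num
  obtain ⟨h4, x, hx1, hx2, hx3, hx4⟩ := end_three_aux a u v hne haa (by linarith) (by linarith)
    (by linarith) (by linarith) (by linarith) hodd he
  refine ⟨h4, x, hx1, ?_, ?_, hx4⟩
  · have h5 : ε * ∑ t, x t * b t = ∑ t, x t * a t - 4 * ∑ t, x t * u t := by
      simp only [Finset.mul_sum, ← Finset.sum_sub_distrib]
      refine Finset.sum_congr rfl fun t _ => ?_
      linear_combination -(x t) * hu t
    rw [hx1, hx2] at h5
    rcases hε with h | h <;> rw [h] at h5 <;> linarith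
  · have h5 : δ * ∑ t, x t * c t = ∑ t, x t * a t - 4 * ∑ t, x t * v t := by
      simp only [Finset.mul_sum, ← Finset.sum_sub_distrib]
      refine Finset.sum_congr rfl fun t _ => ?_
      linear_combination -(x t) * hv t
    rw [hx1, hx3] at h5
    rcases hδ with h | h <;> rw [h] at h5 <;> linarith

end Cfsg.Agent.H756.KS
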